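import Cfsg.Agent.H448.FprTwF.Idx
import Cfsg.Agent.H67.TwFFourOdd

/-!
# `²F₄(q)`: the centralizers of the torus elements which centralize a root group (helper249)

* `card_cent` : `|C(t)| ≤ |X_k| * 32 * (|X_k| * |T|)` for `1 ≠ t ∈ C_T(X_k)`, `k = 1` and `k = 8`.
-/

set_option autoImplicit false
set_option linter.unusedSectionVars false

namespace Cfsg.Agent.H249.DP.TwF

open Cfsg.Agent.KFacts.TwF4 Cfsg.Agent.KFacts.TwF4.Full
open Cfsg.Agent.SplitTwo Cfsg.Agent.SplitTwo.ZS Cfsg.Agent.TitsThree.RankTwoZ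
open Cfsg.Agent.SplitTwo.RootSysZ Subgroup MulAction Cfsg.Agent.H409 Cfsg.Agent.H448.FprTwF

universe u

/-- the centralizer of `t ∈ K` and the fixed points of `t` on the cosets of `K` -/
theorem card_centralizer_le {G : Type*} [Group G] [Finite G] {K : Subgroup G} {t : G} (ht : t ∈ K) :
    Nat.card ↥(centralizer ({t} : Set G)) ≤ Nat.card (fixedBy (G ⧸ K) t) * Nat.card ↥(K ⊓ centralizer ({t} : Set G)) := by
  classical
  have hf : ∀ c : ↥(centralizer ({t} : Set G)), ((c : G) : G ⧸ K) ∈ fixedBy (G ⧸ K) t := by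
    intro c
    rw [mem_fixedBy]
    change ((t * c : G) : G ⧸ K) = ((c : G) : G ⧸ K)
    rw [QuotientGroup.eq]
    have h1 : (c : G) * t = t * c := mem_centralizer_singleton_iff.1 c.2
    have e : (t * (c : G))⁻¹ * (c : G) = t⁻¹ := by
      rw [← h1]; group
    rw [e]
    exact inv_mem ht
  let f : ↥(centralizer ({t} : Set G)) → fixedBy (G ⧸ K) t := fun c => ⟨_, hf c⟩
  let r : fixedBy (G ⧸ K) t → ↥(centralizer ({t} : Set G)) := fun ω =>
    if h : ∃ c, f c = ω then h.choose else 1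
  have hr : ∀ c, f (r (f c)) = f c := by
    intro c
    have h : ∃ c', f c' = f c := ⟨c, rfl⟩
    show f (if h : ∃ c', f c' = f c then h.choose else 1) = f c
    rw [dif_pos h]
    exact h.choose_spec
  have hm : ∀ c, ((r (f c))⁻¹ * c : ↥(centralizer ({t} : Set G))).1 ∈ K ⊓ centralizer ({t} : Set G) := by
    intro c
    refine mem_inf.2 ⟨?_, ((r (f c))⁻¹ * c).2⟩
    have h1 := congrArg Subtype.val (hr c)
    exact (QuotientGroup.eq.1 h1)
  rw [← Nat.card_prod]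
  refine Nat.card_le_card_of_injective
    (fun c => (f c, (⟨_, hm c⟩ : ↥(K ⊓ centralizer ({t} : Set G))))) ?_
  intro c c' h
  simp only [Prod.mk.injEq, Subtype.mk.injEq] at h
  obtain ⟨h1, h2⟩ := h
  rw [h1] at h2
  apply Subtype.ext
  exact mul_left_cancel h2

variable {F : Type*} [Field F] {σ : F →+* F} {G : Type u} [Group G] (S : Full σ G)

/-- the Borel subgroup -/
def B : Subgroup G where
  carrier := {g | ∃ u ∈ J S.XZ 1 8, ∃ t ∈ S.T, g = u * t}
  mul_mem' := by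
    rintro _ _ ⟨u, hu, t, ht, rfl⟩ ⟨v, hv, s, hs, rfl⟩
    refine ⟨u * (t * v * t⁻¹), mul_mem hu (S.T_conj_J ht hv), t * s, mul_mem ht hs, ?_⟩
    group
  one_mem' := ⟨1, one_mem _, 1, one_mem _, (one_mul 1).symm⟩
  inv_mem' := by
    rintro _ ⟨u, hu, t, ht, rfl⟩
    refine ⟨t⁻¹ * u⁻¹ * t⁻¹⁻¹, S.T_conj_J (inv_mem ht) (inv_mem hu), t⁻¹, inv_mem ht, ?_⟩
    group

theorem U_le : J S.XZ 1 8 ≤ B S := fun u hu => ⟨u, hu, 1, one_mem _, (mul_one u).symm⟩

theorem T_le : S.T ≤ B S := fun t ht => ⟨1, one_mem _, t, ht, (one_mul t).symm⟩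

/-- the number of fixed points of a torus element on the cosets of a parabolic subgroup -/
theorem fix_count' [Finite G] {K R X : Subgroup G} (hU : J S.XZ 1 8 ≤ K) (hT : S.T ≤ K) {t : G}
    (hsp : ∀ b ∈ J S.XZ 1 8, ∃ r ∈ R, ∃ x ∈ X, b = r * x) (hn : ∀ y ∈ R, t * y * t⁻¹ ∈ R)
    (hC : ∀ y ∈ R, t * y = y * t → y = 1) : Nat.card (fixedBy (G ⧸ K) t) ≤ Nat.card X * 32 := by
  classical
  let f : ZMod (2 * 8) → Bool → ZMod (2 * 8) → ZMod (2 * 8) := fun c ε k => if ε then c + k else c - k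
  have key : ∀ ω : fixedBy (G ⧸ K) t, ∃ (r : G) (x : X) (m : G) (c : ZMod (2 * 8)) (ε : Bool),
      r ∈ R ∧ Maps S.R.X m (f c ε) ∧ (ω : G ⧸ K) = r • (((x : G) * m : G) : G ⧸ K) := by
    rintro ⟨ω, hω⟩
    obtain ⟨g, rfl⟩ := QuotientGroup.mk_surjective ω
    obtain ⟨b, hb, t', ht', w, hw, b', hb', rfl⟩ := S.bruhat g
    obtain ⟨r, hr, x, hx, rfl⟩ := hsp b hb
    obtain ⟨c, hc⟩ := hw
    have e0 : ((r * x * t' * w * b' : G) : G ⧸ K) = r • ((x * (t' * w) : G) : G ⧸ K) := by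
      change _ = ((r * (x * (t' * w)) : G) : G ⧸ K)
      rw [QuotientGroup.eq]
      have e : (r * x * t' * w * b')⁻¹ * (r * (x * (t' * w))) = b'⁻¹ := by group
      rw [e]
      exact inv_mem (hU hb')
    rcases hc with hc | hc
    · exact ⟨r, ⟨x, hx⟩, t' * w, c, true, hr, torus_mul S ht' hc, e0⟩
    · exact ⟨r, ⟨x, hx⟩, t' * w, c, false, hr, torus_mul S ht' hc, e0⟩
  choose r x m c ε hr hm hω using key
  have hinj : Function.Injective (fun ω : fixedBy (G ⧸ K) t => (x ω, c ω, ε ω)) := by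
    intro ω ω' h
    simp only [Prod.mk.injEq] at h
    obtain ⟨h1, h2, h3⟩ := h
    have h4 := hm ω'
    rw [← h2, ← h3] at h4
    have h5 := maps_div S (hm ω) h4
    have h6 : (((x ω : G) * m ω : G) : G ⧸ K) = (((x ω' : G) * m ω' : G) : G ⧸ K) := by
      rw [← h1, QuotientGroup.eq]
      have e : ((x ω : G) * m ω)⁻¹ * ((x ω : G) * m ω') = (m ω)⁻¹ * m ω' := by group
      rw [e]
      exact hT h5
    have h7 : (ω' : G ⧸ K) = (r ω' * (r ω)⁻¹) • (ω : G ⧸ K) := by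
      rw [hω ω', hω ω, ← h6, smul_smul, inv_mul_cancel_right]
    have h8 := fpf_unique (R := R) (x := t) hn hC
      (ω := (ω : G ⧸ K)) ω.2 (y := r ω' * (r ω)⁻¹) (mul_mem (hr ω') (inv_mem (hr ω)))
      (by rw [← h7]; exact ω'.2)
    apply Subtype.ext
    rw [h7, h8]
  have h1 := Nat.card_le_card_of_injective _ hinj
  rw [Nat.card_prod, Nat.card_prod] at h1
  have h2 : Nat.card (ZMod (2 * 8)) = 16 := by rw [Nat.card_zmod]
  have h3 : Nat.card Bool = 2 := by rw [Nat.card_eq_fintype_card, Fintype.card_bool]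
  rw [h2, h3] at h1
  omega

/-- `C(t) ∩ B ≤ X_k T` -/
theorem card_cent_B [Finite G] {k : ℤ} {t : G} (ht : t ∈ S.Tk k) (ht1 : t ≠ 1) (h0 : 0 < k) (h8 : k ≤ 8) :
    Nat.card ↥(B S ⊓ centralizer ({t} : Set G)) ≤ Nat.card (S.XZ k) * Nat.card S.T := by
  rw [← Nat.card_prod]
  have key : ∀ g : ↥(B S ⊓ centralizer ({t} : Set G)), ∃ x : S.XZ k × S.T, (g : G) = x.1 * x.2 := by
    rintro ⟨g, hg⟩
    obtain ⟨⟨u, hu, s, hs, rfl⟩, hc⟩ := mem_inf.1 hg
    rw [mem_centralizer_singleton_iff] at hc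
    have h1 : t * u * t⁻¹ = u := by
      have h2 : s * t = t * s := S.T_comm hs ht.1
      have h3 : u * t * s = t * u * s := by
        rw [mul_assoc, ← h2, ← mul_assoc, hc, mul_assoc]
      rw [← mul_right_cancel h3, mul_inv_cancel_right]
    exact ⟨(⟨u, S.fix_J ht ht1 (a := 1) (b := 8) (by omega) (by omega) (by norm_num) hu h1⟩, ⟨s, hs⟩), rfl⟩
  choose f hf using key
  refine Nat.card_le_card_of_injective f fun g g' h => Subtype.ext ?_
  rw [hf g, hf g', h]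

/-- **`t ∈ C_T(X_1)`** -/
theorem card_cent_one [Finite G] [Finite F] {t : G} (ht : t ∈ S.Tk 1) (ht1 : t ≠ 1) :
    Nat.card ↥(centralizer ({t} : Set G)) ≤ 32 * Nat.card F ^ 2 * (Nat.card F - 1) ^ 2 := by
  have h1 := card_centralizer_le (K := B S) (T_le S ht.1)
  have h2 := fix_count' S (U_le S) (T_le S) (R := J S.XZ 2 8) (X := S.XZ 1) (t := t)
    (fun b hb => S.zsys8.split_lr (a := 1) (b := 8) (by norm_num) (by norm_num) hb)
    (fun y hy => S.T_conj_J ht.1 hy) (fun y hy h => by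
      have h3 := S.fix_J ht ht1 (a := 2) (b := 8) (by norm_num) (by norm_num) (by norm_num) hy (by rw [h]; group)
      exact S.zsys8.inter 1 y h3 hy)
  have h3 := card_cent_B S ht ht1 (by norm_num) (by norm_num)
  have h4 : Nat.card S.T = (Nat.card F - 1) ^ 2 := Cfsg.Agent.H67.TwFFourOdd.card_torus S
  rw [card_X1'] at h2 h3
  rw [h4] at h3
  calc _ ≤ _ := h1
    _ ≤ (Nat.card F * 32) * (Nat.card F * (Nat.card F - 1) ^ 2) := Nat.mul_le_mul h2 h3
    _ = _ := by ring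

/-- **`t ∈ C_T(X_8)`** -/
theorem card_cent_eight [Finite G] [Finite F] {t : G} (ht : t ∈ S.Tk 8) (ht1 : t ≠ 1) :
    Nat.card ↥(centralizer ({t} : Set G)) ≤ 32 * Nat.card F ^ 4 * (Nat.card F - 1) ^ 2 := by
  have h1 := card_centralizer_le (K := B S) (T_le S ht.1)
  have h2 := fix_count' S (U_le S) (T_le S) (R := J S.XZ 1 7) (X := S.XZ 8) (t := t)
    (fun b hb => S.zsys8.split_rr (a := 1) (b := 8) (by norm_num) (by norm_num) hb)
    (fun y hy => S.T_conj_J ht.1 hy) (fun y hy h => by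
      have h3 := S.fix_J ht ht1 (a := 1) (b := 7) (by norm_num) (by norm_num) (by norm_num) hy (by rw [h]; group)
      exact S.zsys8.inter' (k := 8) h3 (J_mono (by norm_num) (by norm_num) hy))
  have h3 := card_cent_B S ht ht1 (by norm_num) (by norm_num)
  have h4 : Nat.card S.T = (Nat.card F - 1) ^ 2 := Cfsg.Agent.H67.TwFFourOdd.card_torus S
  rw [card_X8'] at h2 h3
  rw [h4] at h3
  calc _ ≤ _ := h1
    _ ≤ (Nat.card F ^ 2 * 32) * (Nat.card F ^ 2 * (Nat.card F - 1) ^ 2) := Nat.mul_le_mul h2 h3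
    _ = _ := by ring

/-- transport along the rotation -/
theorem card_cent_ck [Finite G] (m : ℤ) (t : G) :
    Nat.card ↥(centralizer ({t} : Set G)) = Nat.card ↥(centralizer ({S.ck m t} : Set G)) := by
  have h : IsConj t (S.ck m t) := isConj_iff.2 ⟨S.rot ^ m, (S.ck_apply m t).symm⟩
  exact Cfsg.Agent.Blocks.SylowIn.card_centralizer_of_isConj h.symm

end Cfsg.Agent.H249.DP.TwF
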