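import Cfsg.Agent.H514.DP.Core
import Cfsg.Agent.H845.CopTits
import Cfsg.Agent.H95.LSx.Tits
import Cfsg.Agent.H121.Chr

/-!
# Products of `p`-elements in the Tits group (helper249, S2454)

* `pw_tits` : every element of the Tits group is a product of 70 `p`-elements, `p` a prime divisor of the order.
-/

set_option autoImplicit false

namespace Cfsg.Agent.H249.DP.Tits

open Subgroup Cfsg.Agent.H514.DP Cfsg.Agent.H87.TitsAbs

/-- an element moved by a `p`-element inside a commutative group is a product of two `p`-elements -/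
theorem pe_of_norm {G : Type*} [Group G] {p : ℕ} {x w y : G} (hw : IsPE p w) (h : w * x * w⁻¹ = y) :
    PE p 2 (y * x⁻¹) := ⟨w, x * w⁻¹ * x⁻¹, hw, (hw.inv.conj x).pe, by rw [← h]; group⟩

theorem minDeg : MinDeg Cfsg.Lie.TitsGroup 16 := by
  intro k ρ hρ hk
  obtain ⟨g, hg⟩ := Cfsg.Agent.H121.Chr.exists_ne_one ρ hρ hk
  have hfin : Finite Cfsg.Lie.TitsGroup := by
    apply Nat.finite_of_card_ne_zero
    rw [Cfsg.Agent.H87.TitsData.card_tits]
    norm_num
  let ρ' : Cfsg.Lie.TitsGroup →* Matrix.GeneralLinearGroup (Fin k) ℂ :=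
    (Units.map ((LinearMap.toMatrixAlgEquiv' : (((Fin k → ℂ) →ₗ[ℂ] (Fin k → ℂ)) ≃ₐ[ℂ] Matrix (Fin k) (Fin k) ℂ)) :
      ((Fin k → ℂ) →ₗ[ℂ] (Fin k → ℂ)) →* Matrix (Fin k) (Fin k) ℂ)).comp (MonoidHom.toHomUnits ρ)
  have hne : ρ' ≠ 1 := by
    intro h
    apply hg
    have h1 := DFunLike.congr_fun h g
    have h2 := congrArg Units.val h1
    have h3 : LinearMap.toMatrixAlgEquiv' (ρ g) = 1 := h2
    have h4 : LinearMap.toMatrixAlgEquiv' (ρ g) = LinearMap.toMatrixAlgEquiv' (1 : (Fin k → ℂ) →ₗ[ℂ] (Fin k → ℂ)) := by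
      rw [h3, map_one]
    exact LinearMap.toMatrixAlgEquiv'.injective h4
  have hperf : commutator Cfsg.Lie.TitsGroup = ⊤ := by
    rcases Cfsg.Agent.H95.LSx.Tits.simple_tits.eq_bot_or_eq_top_of_normal (commutator Cfsg.Lie.TitsGroup) inferInstance
      with h1 | h1
    · exfalso
      obtain ⟨D⟩ := Cfsg.Agent.H87.TitsData.dat_tits
      have h3 : D.t * D.x * D.t⁻¹ * D.x⁻¹ ∈ commutator Cfsg.Lie.TitsGroup :=
        Subgroup.commutator_mem_commutator (mem_top _) (mem_top _)
      rw [h1, mem_bot, D.txt] at h3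
      have h4 : D.x ^ 2 = 1 := by
        rw [← h3]; group
      apply D.x1
      have h5 := D.x13
      calc D.x = D.x ^ 13 * ((D.x ^ 2) ^ 6)⁻¹ := by group
        _ = 1 := by rw [h5, h4]; group
    · exact h1
  exact Cfsg.Agent.H95.LSx.Tits.ls Cfsg.Lie.TitsGroup (MonoidHom.id _) Function.surjective_id
    (by rw [MonoidHom.ker_id]; exact bot_le) hperf ℂ (by norm_num) k ρ' hne

section

variable {S : Type*} [Group S] [Finite S]

theorem centralizer_le_of_mem {G : Type*} [Group G] {x y : G} (h : x ∈ zpowers y) :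
    centralizer ({y} : Set G) ≤ centralizer ({x} : Set G) := by
  intro g hg
  rw [mem_centralizer_singleton_iff] at hg ⊢
  obtain ⟨k, rfl⟩ := h
  exact (Commute.zpow_right (show Commute g y from hg) k).eq

theorem card_le_of_mem {G : Type*} [Group G] [Finite G] {x y : G} (h : x ∈ zpowers y) :
    Nat.card (centralizer ({y} : Set G)) ≤ Nat.card (centralizer ({x} : Set G)) :=
  Nat.card_le_card_of_injective _ (Subgroup.inclusion_injective (centralizer_le_of_mem h))

theorem card_centralizer_equiv {G H : Type*} [Group G] [Group H] (e : G ≃* H) (y : G) :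
    Nat.card (centralizer ({y} : Set G)) = Nat.card (centralizer ({e y} : Set H)) := by
  refine Nat.card_congr ⟨fun c => ⟨e c, ?_⟩, fun c => ⟨e.symm c, ?_⟩, fun c => ?_, fun c => ?_⟩
  · rw [mem_centralizer_singleton_iff, ← map_mul, mem_centralizer_singleton_iff.1 c.2, map_mul]
  · rw [mem_centralizer_singleton_iff]
    apply e.injective
    rw [map_mul, map_mul, e.apply_symm_apply]
    exact mem_centralizer_singleton_iff.1 c.2
  · exact Subtype.ext (e.symm_apply_apply _)
  · exact Subtype.ext (e.apply_symm_apply _)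

open scoped Pointwise in
theorem cent_sylow {G : Type*} [Group G] [Finite G] (hcT : Nat.card G = 17971200) {x z : G} (hx : orderOf x = 13)
    (hz : orderOf z = 13) (hC : Nat.card (centralizer ({x} : Set G)) = 13) :
    Nat.card (centralizer ({z} : Set G)) ≤ 13 := by
  have : Fact (Nat.Prime 13) := ⟨by norm_num⟩
  have hS : ∀ w : G, orderOf w = 13 → ∃ P : Sylow 13 G, (P : Subgroup G) = zpowers w := by
    intro w hw
    have hp : IsPGroup 13 (zpowers w) := IsPGroup.of_card (n := 1) (by rw [Nat.card_zpowers, hw, pow_one])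
    have h1 := Subgroup.card_mul_index (zpowers w)
    rw [Nat.card_zpowers, hw, hcT] at h1
    have h2 : ¬ 13 ∣ (zpowers w).index := by
      have h3 : (zpowers w).index = 1382400 := Nat.eq_of_mul_eq_mul_left (by norm_num : 0 < 13) (h1.trans (by norm_num))
      rw [h3]
      norm_num
    exact ⟨hp.toSylow h2, rfl⟩
  obtain ⟨P, hP⟩ := hS _ hz
  obtain ⟨Q, hQ⟩ := hS _ hx
  obtain ⟨g, hg⟩ := MulAction.exists_smul_eq G P Q
  have h0 : ((g • P : Sylow 13 G) : Subgroup G) = MulAut.conj g • (P : Subgroup G) := rfl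
  have h1 : g * z * g⁻¹ ∈ zpowers x := by
    rw [← hQ, ← hg, h0, Subgroup.mem_pointwise_smul_iff_inv_smul_mem]
    have e1 : (MulAut.conj g)⁻¹ • (g * z * g⁻¹) = z := by
      rw [← map_inv, MulAut.smul_def, MulAut.conj_apply]; group
    rw [e1, hP]
    exact mem_zpowers _
  have ho : orderOf (g * z * g⁻¹) = 13 := by
    rw [← hz]
    exact orderOf_injective (MulAut.conj g).toMonoidHom (MulAut.conj g).injective z
  have h2 : x ∈ zpowers (g * z * g⁻¹) := by
    have h3 : zpowers (g * z * g⁻¹) = zpowers x := by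
      apply Subgroup.eq_of_le_of_card_ge
      · rw [zpowers_le]; exact h1
      · rw [Nat.card_zpowers, Nat.card_zpowers, hx, ho]
    rw [h3]; exact mem_zpowers _
  have h3 := card_le_of_mem h2
  rw [hC] at h3
  have h5 : Nat.card (centralizer ({g * z * g⁻¹} : Set G)) = Nat.card (centralizer ({z} : Set G)) :=
    Cfsg.Agent.Blocks.SylowIn.card_centralizer_of_isConj (isConj_iff.2 ⟨g, rfl⟩)
  rw [← h5]
  exact h3

/-- elements of order 13 -/
theorem card_cent {y : Cfsg.Lie.TitsGroup} (hy : orderOf y = 13) :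
    Nat.card (centralizer ({y} : Set Cfsg.Lie.TitsGroup)) ≤ 13 := by
  have hfin : Finite Cfsg.Lie.TitsGroup := by
    apply Nat.finite_of_card_ne_zero
    rw [Cfsg.Agent.H87.TitsData.card_tits]
    norm_num
  have h : Cfsg.Lie.IsoTits Cfsg.Lie.TitsGroup := ⟨MulEquiv.refl _⟩
  have hc : Nat.card Cfsg.Lie.TitsGroup = 17971200 := Cfsg.Agent.NotCT.Orders.tits h
  obtain ⟨D0⟩ := Cfsg.Agent.H87.TitsData.dat_tits
  have : Fact (Nat.Prime 13) := ⟨by norm_num⟩
  have hx : orderOf D0.x = 13 := orderOf_eq_prime D0.x13 D0.x1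
  exact cent_sylow hc hx hy (Cfsg.Agent.H845.CopTits.card_cent_x h D0)

end

end Cfsg.Agent.H249.DP.Tits
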