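import Cfsg.Agent.H514.DP.Core

/-!
# Diagonal elements of `SL₂(F)` as products of two `p`-elements (helper249)

* `pow_eq_one` : the powers of a matrix of `SL₂(F)` depend only on its trace, in the following sense: if `A ^ n = 1`, `A` is not
  scalar and `B` has the trace of `A`, then `B ^ n = 1`.
* `pe_diag` : if `SL₂(F)` has a non-scalar `p`-element then `diag (l, l⁻¹)`, `l² ≠ 1`, is a product of two `p`-elements.
-/

set_option autoImplicit false

namespace Cfsg.Agent.H249.DP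

open Matrix Cfsg.Agent.H514.DP

variable {F : Type*} [Field F]

theorem sq_eq (A : Matrix (Fin 2) (Fin 2) F) (h : A.det = 1) : A * A = A.trace • A - 1 := by
  rw [det_fin_two] at h
  ext i j
  rw [Matrix.mul_apply, Fin.sum_univ_two, trace_fin_two, Matrix.sub_apply, Matrix.smul_apply, smul_eq_mul]
  fin_cases i <;> fin_cases j
  · simp
    linear_combination -h
  · simp
    ring
  · simp
    ring
  · simp
    linear_combination -h

theorem exists_uv (a : F) (n : ℕ) : ∃ u v : F, ∀ A : Matrix (Fin 2) (Fin 2) F, A.det = 1 → A.trace = a →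
    A ^ n = u • A + v • 1 := by
  induction n with
  | zero => exact ⟨0, 1, fun A _ _ => by simp⟩
  | succ n ih =>
    obtain ⟨u, v, h⟩ := ih
    refine ⟨u * a + v, -u, fun A hA ht => ?_⟩
    rw [pow_succ, h A hA ht, add_mul, smul_mul_assoc, smul_mul_assoc, one_mul, sq_eq A hA, ht]
    module

/-- the powers depend only on the trace -/
theorem pow_eq_one {A B : Matrix (Fin 2) (Fin 2) F} (hA : A.det = 1) (hB : B.det = 1) (ht : B.trace = A.trace)
    (hns : ∀ c : F, A ≠ c • 1) {n : ℕ} (h : A ^ n = 1) : B ^ n = 1 := by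
  obtain ⟨u, v, huv⟩ := exists_uv A.trace n
  have h1 := huv A hA rfl
  rw [h] at h1
  have hu : u = 0 := by
    by_contra hu
    refine hns (u⁻¹ * (1 - v)) ?_
    have h2 : u • A = (1 - v) • (1 : Matrix (Fin 2) (Fin 2) F) := by
      rw [sub_smul, one_smul, eq_sub_iff_add_eq]
      exact h1.symm
    rw [mul_smul, ← h2, smul_smul, inv_mul_cancel₀ hu, one_smul]
  rw [hu, zero_smul, zero_add] at h1
  rw [huv B hB ht, hu, zero_smul, zero_add, ← h1]

theorem isPE_of_trace {p : ℕ} {x y : SpecialLinearGroup (Fin 2) F} (hx : IsPE p x)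
    (hns : ∀ c : F, (x : Matrix (Fin 2) (Fin 2) F) ≠ c • 1)
    (ht : (y : Matrix (Fin 2) (Fin 2) F).trace = (x : Matrix (Fin 2) (Fin 2) F).trace) : IsPE p y := by
  obtain ⟨k, hk⟩ := hx
  refine ⟨k, Subtype.ext ?_⟩
  have h1 : (x : Matrix (Fin 2) (Fin 2) F) ^ p ^ k = 1 := congrArg Subtype.val hk
  exact pow_eq_one x.2 y.2 ht hns h1

/-- **Diagonal elements are products of two `p`-elements.** -/
theorem pe_diag {p : ℕ} {x : SpecialLinearGroup (Fin 2) F} (hx : IsPE p x)
    (hns : ∀ c : F, (x : Matrix (Fin 2) (Fin 2) F) ≠ c • 1) {l : F} (hl0 : l ≠ 0) (hl : l * l ≠ 1)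
    {g : SpecialLinearGroup (Fin 2) F} (hg : (g : Matrix (Fin 2) (Fin 2) F) = !![l, 0; 0, l⁻¹]) : PE p 2 g := by
  obtain ⟨a, ha⟩ : ∃ a, (x : Matrix (Fin 2) (Fin 2) F).trace = a := ⟨_, rfl⟩
  have hd : l⁻¹ - l ≠ 0 := by
    intro h
    apply hl
    have h1 : l⁻¹ = l := by linear_combination h
    have h2 := inv_mul_cancel₀ hl0
    rwa [h1] at h2
  obtain ⟨α, hα⟩ : ∃ α : F, α * (l⁻¹ - l) = a * (1 - l) := ⟨a * (1 - l) / (l⁻¹ - l), div_mul_cancel₀ _ hd⟩
  let y1 : SpecialLinearGroup (Fin 2) F := ⟨!![α, α * (a - α) - 1; 1, a - α], by rw [det_fin_two_of]; ring⟩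
  let y2 : SpecialLinearGroup (Fin 2) F := ⟨!![(a - α) * l, (1 - α * (a - α)) * l⁻¹; -l, α * l⁻¹], by
    rw [det_fin_two_of]
    have h2 := mul_inv_cancel₀ hl0
    linear_combination h2⟩
  have h1 : IsPE p y1 := isPE_of_trace hx hns (by
    rw [ha]
    show (!![α, α * (a - α) - 1; 1, a - α] : Matrix (Fin 2) (Fin 2) F).trace = a
    rw [trace_fin_two_of]; ring)
  have h2 : IsPE p y2 := isPE_of_trace hx hns (by
    rw [ha]
    show (!![(a - α) * l, (1 - α * (a - α)) * l⁻¹; -l, α * l⁻¹] : Matrix (Fin 2) (Fin 2) F).trace = a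
    rw [trace_fin_two_of]
    linear_combination hα)
  refine ⟨y1, y2, h1, h2.pe, Subtype.ext ?_⟩
  rw [hg]
  show (!![α, α * (a - α) - 1; 1, a - α] * !![(a - α) * l, (1 - α * (a - α)) * l⁻¹; -l, α * l⁻¹] :
    Matrix (Fin 2) (Fin 2) F) = _
  rw [mul_fin_two]
  congr 1
  ext i j
  fin_cases i <;> fin_cases j <;> simp <;> ring

end Cfsg.Agent.H249.DP
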